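import Mathlib

/-!
Resolutions of power torsion modules by sums of the modules `R/I^n`.
-/

set_option autoImplicit false
set_option linter.style.haveILetI false

universe u

namespace Groth.Agent.TorsRes

open CategoryTheory CategoryTheory.Limits DirectSum

variable {R : Type u} [CommRing R] (I : Ideal R)

/-- every element is killed by a power of `I` -/
def IsTors (Z : ModuleCat.{u} R) : Prop := ∀ m : Z, ∃ n : ℕ, ∀ a ∈ I ^ n, a • m = 0

/-- index set of the cover -/
def Idx (Z : ModuleCat.{u} R) : Type u := {p : Z × ℕ // ∀ a ∈ I ^ p.2, a • p.1 = 0}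

/-- the cover -/
abbrev cov (Z : ModuleCat.{u} R) : ModuleCat.{u} R :=
  ModuleCat.of R (⨁ j : Idx I Z, R ⧸ I ^ j.1.2)

open Classical in
/-- the covering map -/
noncomputable def π (Z : ModuleCat.{u} R) : cov I Z ⟶ Z :=
  ModuleCat.ofHom (DirectSum.toModule R (Idx I Z) Z fun j =>
    Submodule.liftQ (I ^ j.1.2) (LinearMap.toSpanSingleton R Z j.1.1) fun a ha => j.2 a ha)

open Classical in
lemma π_surjective {Z : ModuleCat.{u} R} (hZ : IsTors I Z) : Function.Surjective (π I Z).hom := fun m => by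
  obtain ⟨n, hn⟩ := hZ m
  refine ⟨DirectSum.lof R (Idx I Z) (fun j => R ⧸ I ^ j.1.2) ⟨(m, n), hn⟩ (Submodule.Quotient.mk 1), ?_⟩
  simp [π, DirectSum.toModule_lof]
  exact one_smul R m

open Classical in
lemma isTors_over (Z : ModuleCat.{u} R) : IsTors I (cov I Z) := by
  intro (m : ⨁ j : Idx I Z, R ⧸ I ^ j.1.2)
  induction m using DirectSum.induction_on with
  | zero => exact ⟨0, fun a _ => smul_zero a⟩
  | of j x =>
    refine ⟨j.1.2, fun a ha => ?_⟩
    have hx : a • x = 0 := by
      obtain ⟨x, rfl⟩ := Submodule.Quotient.mk_surjective _ x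
      exact (Submodule.Quotient.mk_eq_zero _).2 (Ideal.mul_mem_right _ _ ha)
    rw [← DirectSum.lof_eq_of R, ← map_smul, hx, map_zero]
  | add x y hx hy =>
    obtain ⟨n, hn⟩ := hx
    obtain ⟨k, hk⟩ := hy
    exact ⟨n + k, fun a ha => by
      rw [smul_add, hn a (Ideal.pow_le_pow_right (Nat.le_add_right n k) ha),
        hk a (Ideal.pow_le_pow_right (Nat.le_add_left k n) ha), add_zero]⟩

variable {X Y : ModuleCat.{u} R} (f : X ⟶ Y)

/-- the cover of the kernel -/
abbrev syz : ModuleCat.{u} R := cov I (ModuleCat.of R (LinearMap.ker f.hom))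

/-- the map from the cover of the kernel -/
noncomputable def d : syz I f ⟶ X :=
  π I (ModuleCat.of R (LinearMap.ker f.hom)) ≫ ModuleCat.ofHom (LinearMap.ker f.hom).subtype

lemma d_comp : d I f ≫ f = 0 :=
  ModuleCat.hom_ext (LinearMap.ext fun z => ((π I (ModuleCat.of R (LinearMap.ker f.hom))).hom z).2)

lemma exact_d (hX : IsTors I X) : (ShortComplex.mk (d I f) f (d_comp I f)).Exact :=
  (ShortComplex.ShortExact.moduleCat_exact_iff_function_exact _).2 fun x => by
    refine ⟨fun hx => ?_, ?_⟩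
    · obtain ⟨z, hz⟩ := π_surjective I (Z := ModuleCat.of R (LinearMap.ker f.hom))
        (fun m => by
          obtain ⟨n, hn⟩ := hX m.1
          exact ⟨n, fun a ha => Subtype.ext (hn a ha)⟩) (⟨x, hx⟩ : LinearMap.ker f.hom)
      exact ⟨z, congrArg Subtype.val hz⟩
    · rintro ⟨z, rfl⟩
      exact ((π I (ModuleCat.of R (LinearMap.ker f.hom))).hom z).2

variable (Z : ModuleCat.{u} R)

/-- the resolution -/
noncomputable def cx : ChainComplex (ModuleCat.{u} R) ℕ :=
  ChainComplex.mk' (cov I Z) (syz I (π I Z)) (d I (π I Z)) fun f => ⟨_, d I f, d_comp I f⟩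

lemma cx_d_1_0 : (cx I Z).d 1 0 = d I (π I Z) := by simp [cx]

lemma isTors_cx (n : ℕ) : IsTors I ((cx I Z).X n) := by
  obtain (_ | _ | _ | n) := n <;> apply isTors_over

lemma exists_iso (n : ℕ) :
    ∃ (ι : Type u) (k : ι → ℕ), Nonempty ((cx I Z).X n ≅ ModuleCat.of R (⨁ j : ι, R ⧸ I ^ k j)) := by
  obtain (_ | _ | _ | n) := n <;> exact ⟨_, _, ⟨Iso.refl _⟩⟩

set_option backward.isDefEq.respectTransparency.types false in
lemma exactAt_succ (n : ℕ) : (cx I Z).ExactAt (n + 1) := by
  have h := isTors_cx I Z (n + 1)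
  rw [HomologicalComplex.exactAt_iff' _ (n + 1 + 1) (n + 1) n (by simp) (by simp)]
  revert h
  simp only [HomologicalComplex.sc', HomologicalComplex.shortComplexFunctor', cx,
    ChainComplex.mk', ChainComplex.mk, ChainComplex.of_d]
  intro h
  match n with
  | 0 => exact exact_d I _ h
  | n + 1 => exact exact_d I _ h

/-- the augmentation -/
noncomputable def aug : cx I Z ⟶ (ChainComplex.single₀ (ModuleCat.{u} R)).obj Z :=
  (ChainComplex.toSingle₀Equiv _ _).symm ⟨π I Z, by rw [cx_d_1_0]; exact d_comp I (π I Z)⟩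

set_option backward.defeqAttrib.useBackward true in
set_option backward.isDefEq.respectTransparency false in
lemma quasiIso_aug (hZ : IsTors I Z) : QuasiIso (aug I Z) := ⟨fun n => by
  cases n
  · rw [ChainComplex.quasiIsoAt₀_iff, ShortComplex.quasiIso_iff_of_zeros']
    · dsimp [aug]
      refine (ShortComplex.exact_and_epi_g_iff_of_iso ?_).2
        ⟨exact_d I (π I Z) (isTors_over I Z), (ModuleCat.epi_iff_surjective _).2 (π_surjective I hZ)⟩
      exact ShortComplex.isoMk (Iso.refl _) (Iso.refl _) (Iso.refl _) (by simp [cx]) (by simp)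
    all_goals rfl
  · rw [quasiIsoAt_iff_exactAt']
    · exact exactAt_succ I Z _
    · exact HomologicalComplex.exactAt_single_obj _ _ _ _ (Nat.succ_ne_zero _)⟩

end Groth.Agent.TorsRes
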